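/-
Simplicity criteria for primitive permutation groups: a prime dividing the degree once, with
prime index in the Sylow normaliser; and climbing from a simple point stabiliser.
-/
import Mathlib

set_option autoImplicit false

namespace CfsgLib.PermSimple

open MulAction Subgroup

variable {G : Type*} [Group G]

/-- A Sylow subgroup contained in a normal subgroup: all of them are. -/
theorem sylow_le_of_dvd_card [Finite G] {p : ℕ} [hp : Fact p.Prime] {N : Subgroup G} [N.Normal]
    (P : Sylow p G) (hP : Nat.card (P : Subgroup G) = p) (hN : p ∣ Nat.card N) :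
    (P : Subgroup G) ≤ N := by
  obtain ⟨x, hx⟩ := exists_prime_orderOf_dvd_card' p hN
  have hxG : orderOf (x : G) = p := (Subgroup.orderOf_coe x).trans hx
  have hpg : IsPGroup p (zpowers (x : G)) :=
    IsPGroup.of_card (n := 1) (by rw [Nat.card_zpowers, hxG, pow_one])
  obtain ⟨Q, hQ⟩ := hpg.exists_le_sylow
  obtain ⟨g, hg⟩ := MulAction.exists_smul_eq G Q P
  have hQc : Nat.card (Q : Subgroup G) = p :=
    (Q.card_eq_multiplicity.trans P.card_eq_multiplicity.symm).trans hP
  have hQeq : (Q : Subgroup G) = zpowers (x : G) :=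
    (eq_of_le_of_card_ge hQ (by rw [hQc, Nat.card_zpowers, hxG])).symm
  intro y hy
  have hy' : y ∈ ((g • Q : Sylow p G) : Subgroup G) := by rw [hg]; exact hy
  rw [Sylow.coe_subgroup_smul, Subgroup.mem_pointwise_smul_iff_inv_smul_mem, hQeq] at hy'
  obtain ⟨k, hk⟩ := hy'
  have hmem : (MulAut.conj g)⁻¹ • y ∈ N := by
    rw [← hk]; exact N.zpow_mem x.2 k
  have hc := Normal.conj_mem ‹N.Normal› _ hmem g
  simpa [MulAut.smul_def, MulAut.conj, mul_assoc] using hc

/-- A normal `p'`-complement of a normal subgroup `N` is normal in the whole group. -/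
theorem normal_map_of_coprime_index [Finite G] {N : Subgroup G} [N.Normal] (K : Subgroup N)
    [K.Normal] (hcop : Nat.Coprime (Nat.card K) K.index) : (K.map N.subtype).Normal := by
  refine ⟨fun n hn g => ?_⟩
  obtain ⟨k, hk, rfl⟩ := hn
  let φ : K →* N ⧸ K := (QuotientGroup.mk' K).comp
    (((MulAut.conjNormal g : MulAut N).toMonoidHom).comp K.subtype)
  have hφ : ∀ x : K, φ x = 1 := by
    intro x
    rw [← orderOf_eq_one_iff]
    refine Nat.eq_one_of_dvd_coprimes hcop ?_ ?_
    · exact (orderOf_map_dvd φ x).trans (orderOf_dvd_natCard x)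
    · rw [Subgroup.index_eq_card]; exact orderOf_dvd_natCard _
  have h1 : MulAut.conjNormal g k ∈ K := by
    have := hφ ⟨k, hk⟩
    simpa [φ, QuotientGroup.eq_one_iff] using this
  exact ⟨_, h1, MulAut.conjNormal_apply g k⟩

variable {α : Type*} [MulAction G α]

/-- In a faithful primitive group a non-trivial normal subgroup is transitive, so any prime
dividing the degree divides its order. -/
theorem dvd_card_of_normal [Finite G] [Finite α] [FaithfulSMul G α] [IsPreprimitive G α]
    {p : ℕ} (hp : p ∣ Nat.card α) {N : Subgroup G} [N.Normal] (hN : N ≠ ⊥) :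
    p ∣ Nat.card N := by
  rcases isEmpty_or_nonempty α with h | ⟨⟨a⟩⟩
  · exfalso
    apply hN
    rw [eq_bot_iff]
    intro x _
    exact Subgroup.mem_bot.mpr (eq_of_smul_eq_smul (α := α) fun a => isEmptyElim a)
  have : IsPretransitive N α := by
    refine IsQuasiPreprimitive.isPretransitive_of_normal (N := N) ?_
    intro h
    apply hN
    rw [eq_bot_iff]
    intro x hx
    refine Subgroup.mem_bot.mpr (eq_of_smul_eq_smul (α := α) fun a => ?_)
    have : a ∈ fixedPoints N α := by rw [h]; trivial
    simpa using this ⟨x, hx⟩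
  refine hp.trans ?_
  rw [← index_stabilizer_of_transitive N a]
  exact Subgroup.index_dvd_card _

/-- A primitive group whose degree is divisible by a prime `p`, with Sylow `p`-subgroups of order
`p`, not normal, of prime index in their normalisers, is simple. -/
theorem isSimpleGroup_of_prime_index [Finite G] [Finite α] [FaithfulSMul G α]
    [IsPreprimitive G α] {p : ℕ} [hp : Fact p.Prime] (hdvd : p ∣ Nat.card α) (P : Sylow p G)
    (hP : Nat.card (P : Subgroup G) = p) (hn : 1 < Nat.card (Sylow p G))
    {t : ℕ} (ht : t.Prime) (hNP : Nat.card (normalizer ((P : Subgroup G) : Set G)) = p * t) :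
    IsSimpleGroup G := by
  haveI : Nontrivial G := by
    by_contra h
    rw [not_nontrivial_iff_subsingleton] at h
    have : Nat.card (P : Subgroup G) = 1 := Nat.card_of_subsingleton 1
    exact hp.out.one_lt.ne' (hP.symm.trans this)
  refine ⟨fun N hN => or_iff_not_imp_left.mpr fun hbot => ?_⟩
  haveI := hN
  have hPN := sylow_le_of_dvd_card P hP (dvd_card_of_normal (α := α) hdvd hbot)
  set M := normalizer ((P : Subgroup G) : Set G) with hM
  have hfr : M ⊔ N = ⊤ := P.normalizer_sup_eq_top' hPN
  let I : Subgroup G := M ⊓ N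
  have hPI : (P : Subgroup G) ≤ I := le_inf le_normalizer hPN
  obtain ⟨k, hk⟩ := hP ▸ Subgroup.card_dvd_of_le hPI
  have hkt : k ∣ t := by
    have h := Subgroup.card_dvd_of_le (inf_le_left : I ≤ M)
    rw [hk, hNP] at h
    exact (Nat.mul_dvd_mul_iff_left hp.out.pos).mp h
  rcases (Nat.dvd_prime ht).mp hkt with rfl | rfl
  · exfalso
    rw [mul_one] at hk
    have hIP : I = P := (eq_of_le_of_card_ge hPI (by rw [hk, hP])).symm
    let PN : Sylow p N := P.subtype hPN
    have hcyc : IsCyclic (P : Subgroup G) := isCyclic_of_prime_card hP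
    have hNC : normalizer ((PN : Subgroup N) : Set N) ≤ centralizer ((PN : Subgroup N) : Set N) := by
      intro x hx
      have hxM : (x : G) ∈ M := by
        rw [hM, mem_normalizer_iff]
        intro y
        constructor
        · intro hy
          exact ((mem_normalizer_iff.mp hx) ⟨y, hPN hy⟩).mp hy
        · intro hy
          have hyN : y ∈ N := by
            have h1 := Normal.conj_mem hN _ (hPN hy) (x : G)⁻¹
            simpa [mul_assoc] using h1
          exact ((mem_normalizer_iff.mp hx) ⟨y, hyN⟩).mpr hy
      have hxP : (x : G) ∈ (P : Subgroup G) := by rw [← hIP]; exact ⟨hxM, x.2⟩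
      rw [mem_centralizer_iff]
      intro y hy
      apply Subtype.ext
      have := hcyc.commutative.1.comm (⟨(y : G), hy⟩ : (P : Subgroup G)) ⟨x, hxP⟩
      simpa using congrArg (fun z : (P : Subgroup G) => (z : G)) this
    set K := (MonoidHom.transferSylow PN hNC).ker with hK
    have hcompl := MonoidHom.ker_transferSylow_isComplement' PN hNC
    have hKp : ¬ p ∣ Nat.card K := MonoidHom.not_dvd_card_ker_transferSylow PN hNC
    have hPNc : Nat.card (PN : Subgroup N) = p := by
      rw [show (PN : Subgroup N) = (P : Subgroup G).subgroupOf N from rfl,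
        Nat.card_congr (subgroupOfEquivOfLe hPN).toEquiv, hP]
    have hKi : K.index = p := by rw [hcompl.symm.index_eq_card, hPNc]
    haveI : (K.map N.subtype).Normal := normal_map_of_coprime_index K
      (by rw [hKi]; exact ((hp.out.coprime_iff_not_dvd).mpr hKp).symm)
    have hKbot : K.map N.subtype = ⊥ := by
      by_contra h
      have h' := dvd_card_of_normal (α := α) hdvd h
      rw [Nat.card_congr (K.equivMapOfInjective N.subtype N.subtype_injective).symm.toEquiv] at h'
      exact hKp h'
    have hcN : Nat.card N = p := by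
      rw [Subgroup.map_eq_bot_iff_of_injective _ N.subtype_injective] at hKbot
      rw [← hKi, hKbot, Subgroup.index_bot]
    have hPeq : (P : Subgroup G) = N := eq_of_le_of_card_ge hPN (by rw [hcN, hP])
    have htop : M = ⊤ := by rw [hM, hPeq]; exact normalizer_eq_top_iff.mpr hN
    have hidx : Nat.card (Sylow p G) = M.index := P.card_eq_index_normalizer
    rw [hidx, htop, index_top] at hn
    exact lt_irrefl _ hn
  · have hI : I = M := eq_of_le_of_card_ge inf_le_left (by rw [hk, hNP])
    rw [← hfr, sup_eq_right.mpr]
    exact hI ▸ inf_le_right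

/-- A faithful 2-transitive group with simple point stabiliser, of degree not a prime power, is
simple. -/
theorem isSimpleGroup_of_stabilizer [Finite G] [Finite α] [FaithfulSMul G α] (a : α)
    [IsMultiplyPretransitive G α 2] [IsSimpleGroup (stabilizer G a)]
    (hdeg : ∀ q n : ℕ, q.Prime → Nat.card α ≠ q ^ n) : IsSimpleGroup G := by
  have h2 : IsMultiplyPretransitive G α 2 := inferInstance
  haveI : IsPretransitive G α := isPretransitive_of_is_two_pretransitive
  haveI : IsPreprimitive G α := isPreprimitive_of_is_two_pretransitive h2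
  haveI : Nontrivial G := (stabilizer G a).subtype_injective.nontrivial
  refine ⟨fun N hN => or_iff_not_imp_left.mpr fun hbot => ?_⟩
  haveI := hN
  haveI : IsPretransitive N α := by
    refine IsQuasiPreprimitive.isPretransitive_of_normal (N := N) ?_
    intro h
    apply hbot
    rw [eq_bot_iff]
    intro x hx
    refine Subgroup.mem_bot.mpr (eq_of_smul_eq_smul (α := α) fun a => ?_)
    have : a ∈ fixedPoints N α := by rw [h]; trivial
    simpa using this ⟨x, hx⟩
  rcases IsSimpleGroup.eq_bot_or_eq_top_of_normal (N.subgroupOf (stabilizer G a))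
    inferInstance with hb | ht
  · exfalso
    have hfree : ∀ n ∈ N, n • a = a → n = 1 := fun n hn hna => by
      have : (⟨n, hna⟩ : stabilizer G a) ∈ N.subgroupOf (stabilizer G a) := hn
      rw [hb] at this
      exact congrArg Subtype.val (Subgroup.mem_bot.mp this)
    have hbij : Function.Bijective (fun n : N => (n : G) • a) := by
      constructor
      · intro m n (h : (m : G) • a = (n : G) • a)
        have := hfree _ (N.mul_mem (N.inv_mem n.2) m.2) (by rw [mul_smul, h, inv_smul_smul])
        exact Subtype.ext (inv_mul_eq_one.mp this).symm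
      · intro b
        obtain ⟨n, hn⟩ := exists_smul_eq N a b
        exact ⟨n, hn⟩
    have hne : ∀ n : N, n ≠ 1 → (n : G) • a ≠ a := fun n hn h =>
      hn (Subtype.ext (hfree n n.2 h))
    have hconj : ∀ m n : N, m ≠ 1 → n ≠ 1 → orderOf m = orderOf n := by
      intro m n hm hn
      obtain ⟨g, hga, hgb⟩ :=
        (is_two_pretransitive_iff.mp h2) (hne m hm).symm (hne n hn).symm
      have hinv : g⁻¹ • a = a := inv_smul_eq_iff.mpr hga.symm
      have hgm : (⟨g * m * g⁻¹, hN.conj_mem m m.2 g⟩ : N) = n := hbij.1 (by
        show (g * m * g⁻¹) • a = (n : G) • a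
        rw [mul_smul, hinv, mul_smul, hgb])
      rw [← hgm, ← orderOf_coe (⟨g * m * g⁻¹, _⟩ : N), ← orderOf_coe m]
      exact ((MulAut.conj g).orderOf_eq (m : G)).symm
    have hcard : Nat.card N = Nat.card α := Nat.card_eq_of_bijective _ hbij
    have h1 : 1 < Nat.card N := by
      rw [Finite.one_lt_card_iff_nontrivial, Subgroup.nontrivial_iff_ne_bot]
      exact hbot
    obtain ⟨q, hq, hqd⟩ := Nat.exists_prime_and_dvd h1.ne'
    haveI : Fact q.Prime := ⟨hq⟩
    obtain ⟨x, hx⟩ := exists_prime_orderOf_dvd_card' q hqd
    have hx1 : x ≠ 1 := fun h => by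
      rw [h, orderOf_one] at hx; exact hq.one_lt.ne hx
    have hpg : IsPGroup q N := fun y => by
      by_cases hy : y = 1
      · exact ⟨0, by simp [hy]⟩
      · refine ⟨1, ?_⟩
        rw [pow_one, ← hx, hconj x y hx1 hy]
        exact pow_orderOf_eq_one y
    obtain ⟨n, hn⟩ := IsPGroup.iff_card.mp hpg
    exact hdeg q n hq (hcard.symm.trans hn)
  · rw [eq_top_iff]
    intro g _
    obtain ⟨n, hn⟩ := exists_smul_eq N a (g • a)
    have hst : (n : G)⁻¹ * g ∈ stabilizer G a := by
      rw [mem_stabilizer_iff, mul_smul, ← hn, Subgroup.smul_def, inv_smul_smul]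
    have hmem : (⟨_, hst⟩ : stabilizer G a) ∈ N.subgroupOf (stabilizer G a) := by
      rw [ht]; trivial
    simpa using N.mul_mem n.2 hmem

/-- The normaliser of a Sylow subgroup of prime order, in terms of a bound on its centraliser. -/
theorem normalizer_card_dvd [Finite G] {p : ℕ} [hp : Fact p.Prime] (P : Subgroup G)
    (hP : Nat.card P = p) :
    Nat.card (normalizer (P : Set G)) ∣
      Nat.card (centralizer (P : Set G)) * (p - 1) := by
  have hle : centralizer (P : Set G) ≤ normalizer (P : Set G) := centralizer_le_normalizer _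
  haveI : IsCyclic P := isCyclic_of_prime_card hP
  rw [← Subgroup.card_mul_index ((centralizer (P : Set G)).subgroupOf (normalizer (P : Set G))),
    Nat.card_congr (subgroupOfEquivOfLe hle).toEquiv, ← normalizerMonoidHom_ker P,
    Subgroup.index_ker]
  refine Nat.mul_dvd_mul_left _ ?_
  rw [← Nat.totient_prime hp.out]
  conv_rhs => rw [← hP, ← IsCyclic.card_mulAut P]
  exact Subgroup.card_subgroup_dvd_card _

end CfsgLib.PermSimple
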