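/-
Groups of prime degree p and groups with two orbits for an element of order p: centralisers of
that element and the resulting Sylow normaliser orders.
-/
import Cfsg.Agent.PermSimple.Criteria

set_option autoImplicit false

namespace CfsgLib.PermSimple

open MulAction Subgroup

variable {G : Type*} [Group G] [Finite G] {α : Type*} [MulAction G α] [Finite α] [FaithfulSMul G α]

omit [Finite G] in
/-- An element commuting with a transitive subgroup is determined by the image of one point. -/
theorem eq_of_smul_eq_of_centralizer {P : Subgroup G} [IsPretransitive P α] {c d : G}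
    (hc : c ∈ centralizer (P : Set G)) (hd : d ∈ centralizer (P : Set G)) {a : α}
    (h : c • a = d • a) : c = d := by
  refine eq_of_smul_eq_smul (α := α) fun b => ?_
  obtain ⟨x, hx⟩ := exists_smul_eq P a b
  rw [← hx, Subgroup.smul_def, smul_smul, smul_smul, ← mem_centralizer_iff.mp hc _ x.2,
    ← mem_centralizer_iff.mp hd _ x.2, mul_smul, mul_smul, h]

/-- A subgroup of prime order acting on a set of that size is transitive. -/
theorem isPretransitive_of_card {p : ℕ} [hp : Fact p.Prime] {P : Subgroup G}
    (hP : Nat.card P = p) (hα : Nat.card α = p) : IsPretransitive P α := by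
  have hpg : IsPGroup p P := IsPGroup.of_card (n := 1) (by rw [hP, pow_one])
  haveI : Nonempty α := (Nat.card_pos_iff.mp (hα ▸ hp.out.pos)).1
  obtain ⟨a, ha⟩ : ∃ a : α, a ∉ fixedPoints P α := by
    by_contra h
    push_neg at h
    have : ∀ x : P, x = 1 := fun x => Subtype.ext (eq_of_smul_eq_smul (α := α) fun a => by
      rw [Subgroup.coe_one, one_smul]
      exact (h a x : x • a = a))
    haveI : Subsingleton P := ⟨fun x y => (this x).trans (this y).symm⟩
    rw [Nat.card_of_subsingleton (1 : P)] at hP
    exact hp.out.one_lt.ne hP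
  obtain ⟨n, hn⟩ := hpg.card_orbit a
  have hle : Nat.card (orbit P a) ≤ p := hα ▸ Nat.card_le_card_of_injective _ Subtype.val_injective
  have h0 : n ≠ 0 := by
    intro h
    apply ha
    rw [h, pow_zero] at hn
    intro x
    haveI := (Nat.card_eq_one_iff_unique.mp hn).1
    exact congrArg Subtype.val
      (Subsingleton.elim (⟨x • a, mem_orbit a x⟩ : orbit P a) ⟨a, mem_orbit_self a⟩)
  have h1 : Nat.card (orbit P a) = p := by
    refine le_antisymm hle (hn ▸ ?_)
    exact Nat.le_self_pow h0 p
  refine isPretransitive_iff_orbit_eq_univ a |>.mpr ?_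
  refine Set.eq_univ_of_forall fun b => ?_
  by_contra hb
  have hlt : (orbit P a).ncard < Nat.card α := by
    rw [← Set.ncard_univ]
    exact Set.ncard_lt_ncard (Set.ssubset_univ_iff.mpr fun h => hb (h ▸ trivial))
  rw [← Nat.card_coe_set_eq, h1, hα] at hlt
  exact lt_irrefl _ hlt

/-- In prime degree an element of order `p` is self-centralising. -/
theorem centralizer_eq_of_card {p : ℕ} [hp : Fact p.Prime] {P : Subgroup G}
    (hP : Nat.card P = p) (hα : Nat.card α = p) : centralizer (P : Set G) = P := by
  haveI := isPretransitive_of_card (α := α) hP hα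
  haveI : IsCyclic P := isCyclic_of_prime_card hP
  have hle : P ≤ centralizer (P : Set G) := fun x hx => mem_centralizer_iff.mpr fun y hy =>
    congrArg Subtype.val (IsCyclic.commutative.1.comm (⟨y, hy⟩ : P) ⟨x, hx⟩)
  refine le_antisymm (fun c hc => ?_) hle
  haveI : Nonempty α := (Nat.card_pos_iff.mp (hα ▸ hp.out.pos)).1
  obtain ⟨a⟩ := ‹Nonempty α›
  obtain ⟨x, hx⟩ := exists_smul_eq P a (c • a)
  rw [eq_of_smul_eq_of_centralizer hc (hle x.2) (a := a) hx.symm]
  exact x.2

/-- If elements of order `p` have no fixed points and `Nat.card α = 2 * p`, the centraliser of a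
subgroup of order `p` has order at most `2 * p`, provided `p ^ 2` does not divide the order. -/
theorem card_centralizer_le_two_mul {p : ℕ} [hp : Fact p.Prime] {P : Subgroup G}
    (hP : Nat.card P = p) (hα : Nat.card α = 2 * p)
    (hfree : ∀ x : G, orderOf x = p → ∀ a : α, x • a ≠ a) :
    Nat.card (centralizer (P : Set G)) ≤ 2 * p := by
  haveI : Nonempty α := (Nat.card_pos_iff.mp (hα ▸ Nat.mul_pos two_pos hp.out.pos)).1
  obtain ⟨a⟩ := ‹Nonempty α›
  have horder : ∀ x : P, x ≠ 1 → orderOf (x : G) = p := fun x hx => by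
    rw [Subgroup.orderOf_coe]
    rcases (Nat.dvd_prime hp.out).mp (hP ▸ orderOf_dvd_natCard x) with h | h
    · exact absurd (orderOf_eq_one_iff.mp h) hx
    · exact h
  have horb : ∀ b : α, Function.Injective (fun x : P => (x : G) • b) := by
    intro b x y (h : (x : G) • b = (y : G) • b)
    by_contra hne
    refine hfree _ (horder (y⁻¹ * x) fun h' => hne (inv_mul_eq_one.mp h').symm) b ?_
    rw [Subgroup.coe_mul, Subgroup.coe_inv, mul_smul, h, inv_smul_smul]
  rw [← hα]
  refine Nat.card_le_card_of_injective (fun c : centralizer (P : Set G) => (c : G) • a) ?_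
  intro c d (h : (c : G) • a = (d : G) • a)
  set e := (d : G)⁻¹ * c with he
  suffices e = 1 from Subtype.ext (inv_mul_eq_one.mp this).symm
  have hec : e ∈ centralizer (P : Set G) := Subgroup.mul_mem _ (Subgroup.inv_mem _ d.2) c.2
  have hea : e • a = a := by rw [he, mul_smul, h, inv_smul_smul]
  have hcomm : ∀ (x : P) (b : α), e • ((x : G) • b) = (x : G) • (e • b) := fun x b => by
    rw [smul_smul, smul_smul, mem_centralizer_iff.mp hec _ x.2]
  -- the orbit of `a` and the orbit of any other point exhaust the set
  have hcover : ∀ b, (∀ x : P, (x : G) • a ≠ b) → ∀ z, (∃ x : P, (x : G) • a = z) ∨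
      ∃ x : P, (x : G) • b = z := by
    intro b hb z
    let f : P ⊕ P → α := Sum.elim (fun x => (x : G) • a) (fun x => (x : G) • b)
    have hf : Function.Bijective f := by
      rw [Nat.bijective_iff_injective_and_card]
      refine ⟨Function.Injective.sumElim (horb a) (horb b) fun x y hxy => ?_, ?_⟩
      · exact hb (y⁻¹ * x) (by
          rw [Subgroup.coe_mul, Subgroup.coe_inv, mul_smul, hxy, inv_smul_smul])
      · rw [Nat.card_sum, hP, hα, two_mul]
    obtain ⟨x | x, hx⟩ := hf.2 z
    exacts [Or.inl ⟨x, hx⟩, Or.inr ⟨x, hx⟩]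
  have hfix : ∀ x : P, e • ((x : G) • a) = (x : G) • a := fun x => by rw [hcomm, hea]
  by_contra hne
  obtain ⟨b, hb⟩ : ∃ b, e • b ≠ b := by
    by_contra h
    push_neg at h
    exact hne (eq_of_smul_eq_smul (α := α) fun b => by rw [h b, one_smul])
  have hbo : ∀ x : P, (x : G) • a ≠ b := fun x hx => hb (hx ▸ hfix x)
  obtain ⟨x, hx⟩ : ∃ x : P, (x : G) • b = e • b := by
    rcases hcover b hbo (e • b) with ⟨x, hx⟩ | h
    · exact absurd (MulAction.injective e ((hfix x).trans hx)) (hbo x)
    · exact h
  have hep : e ^ p = 1 := by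
    refine eq_of_smul_eq_smul (α := α) fun z => ?_
    rw [one_smul]
    rcases hcover b hbo z with ⟨y, rfl⟩ | ⟨y, rfl⟩
    · have : ∀ n : ℕ, e ^ n • ((y : G) • a) = (y : G) • a := by
        intro n; induction n with
        | zero => rw [pow_zero, one_smul]
        | succ n ih => rw [pow_succ, mul_smul, hfix, ih]
      exact this p
    · have : ∀ n : ℕ, e ^ n • ((y : G) • b) = (((x ^ n * y : P) : G)) • b := by
        intro n; induction n with
        | zero => simp
        | succ n ih =>
          have hcp : x * y = y * x := by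
            haveI : IsCyclic P := isCyclic_of_prime_card hP
            exact IsCyclic.commutative.1.comm x y
          rw [pow_succ', mul_smul, ih, hcomm, ← hx, smul_smul, ← Subgroup.coe_mul]
          rw [pow_succ, mul_assoc, mul_assoc, hcp]
      rw [this p, show x ^ p = 1 by rw [← hP]; exact pow_card_eq_one', one_mul]
  exact hfree e (orderOf_eq_prime hep hne) a hea

omit [Finite α] [FaithfulSMul G α] in
/-- The order of a Sylow normaliser from a bound, by divisibility and Sylow's congruence. -/
theorem normalizer_card_eq {p m : ℕ} [hp : Fact p.Prime] (hG : Nat.card G = p * m) (hm : ¬ p ∣ m)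
    {B v : ℕ} (hB : 0 < B) (hsol : ∀ d ≤ B, d ∣ B → d ∣ p * m → p ∣ d → (p * m / d) % p = 1 → d = v)
    (P : Sylow p G) (hbound : Nat.card (normalizer ((P : Subgroup G) : Set G)) ∣ B) :
    Nat.card (P : Subgroup G) = p ∧ Nat.card (normalizer ((P : Subgroup G) : Set G)) = v ∧
      Nat.card (Sylow p G) * v = p * m := by
  have hm0 : m ≠ 0 := fun h => hm (h ▸ dvd_zero p)
  have hP : Nat.card (P : Subgroup G) = p := by
    rw [P.card_eq_multiplicity, hG, Nat.factorization_mul hp.out.ne_zero hm0]
    simp [hp.out.factorization_self, Nat.factorization_eq_zero_of_not_dvd hm]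
  set N := normalizer ((P : Subgroup G) : Set G) with hN
  have hpN : p ∣ Nat.card N := hP ▸ Subgroup.card_dvd_of_le le_normalizer
  have hsyl : Nat.card (Sylow p G) = N.index := P.card_eq_index_normalizer
  have hmul : Nat.card N * N.index = p * m := by rw [Subgroup.card_mul_index, hG]
  have hmod : N.index % p = 1 := by
    have h := card_sylow_modEq_one (p := p) (G := G)
    rw [hsyl, Nat.ModEq, Nat.one_mod_eq_one.mpr hp.out.ne_one] at h
    exact h
  have hv := hsol _ (Nat.le_of_dvd hB hbound) hbound ⟨_, hmul.symm⟩ hpN (by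
    rw [← hmul, Nat.mul_div_cancel_left _ Nat.card_pos]; exact hmod)
  exact ⟨hP, hv, by rw [hsyl, ← hv, mul_comm, hmul]⟩

end CfsgLib.PermSimple
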