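/-
Sharply multiply transitive groups: orders, and simplicity in degrees 11 and 12; prime degree.
-/
import Cfsg.Agent.PermSimple.PrimeDegree

set_option autoImplicit false

namespace CfsgLib.PermSimple

open MulAction

variable {G : Type*} [Group G] {α : Type*} [MulAction G α]

theorem bijective_smul_of_sharp {k : ℕ} [IsMultiplyPretransitive G α k]
    (hsharp : ∀ x : Fin k ↪ α, stabilizer G x = ⊥) (x : Fin k ↪ α) :
    Function.Bijective (fun g : G => g • x) := by
  refine ⟨fun a b h => ?_, fun y => exists_smul_eq G x y⟩
  have h' : b⁻¹ * a ∈ stabilizer G x := by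
    rw [mem_stabilizer_iff, mul_smul]
    exact inv_smul_eq_iff.mpr h
  rw [hsharp x, Subgroup.mem_bot] at h'
  exact (inv_mul_eq_one.mp h').symm

/-- The order of a sharply `k`-transitive group. -/
theorem card_of_sharp [Fintype α] {k : ℕ} (hk : k ≤ Fintype.card α)
    [IsMultiplyPretransitive G α k] (hsharp : ∀ x : Fin k ↪ α, stabilizer G x = ⊥) :
    Nat.card G = (Fintype.card α).descFactorial k := by
  obtain ⟨e⟩ := Function.Embedding.nonempty_of_card_le (α := Fin k) (β := α) (by simpa using hk)
  classical
  rw [Nat.card_eq_of_bijective _ (bijective_smul_of_sharp hsharp e), Nat.card_eq_fintype_card,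
    Fintype.card_embedding_eq, Fintype.card_fin]

/-- A faithful transitive group of order 7920 and degree 11 is simple. -/
theorem isSimpleGroup_7920 [Finite G] [Finite α] [FaithfulSMul G α] [IsPretransitive G α]
    (hG : Nat.card G = 7920) (hα : Nat.card α = 11) : IsSimpleGroup G := by
  haveI : IsPreprimitive G α := IsPreprimitive.of_prime_card (hα ▸ by norm_num)
  haveI : Fact (Nat.Prime 11) := ⟨by norm_num⟩
  obtain ⟨P⟩ : Nonempty (Sylow 11 G) := inferInstance
  have hcard : Nat.card G = 11 * 720 := by rw [hG]
  have hP : Nat.card (P : Subgroup G) = 11 := by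
    rw [P.card_eq_multiplicity, hcard, Nat.factorization_mul (by norm_num) (by norm_num),
      Finsupp.add_apply, Nat.Prime.factorization_self Fact.out,
      Nat.factorization_eq_zero_of_not_dvd (by norm_num)]
    rfl
  have hb := normalizer_card_dvd (P : Subgroup G) hP
  rw [centralizer_eq_of_card (α := α) hP hα, hP] at hb
  obtain ⟨-, hN, hn⟩ := normalizer_card_eq hcard (by norm_num) (v := 11 * 5)
    (by norm_num) (by decide +kernel) P hb
  have hn' : Nat.card (Sylow 11 G) = 144 :=
    Nat.eq_of_mul_eq_mul_right (show 0 < 11 * 5 by norm_num) (hn.trans (by norm_num))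
  exact isSimpleGroup_of_prime_index (α := α) (t := 5) (by rw [hα]) P hP
    (hn'.symm ▸ by norm_num) (by norm_num) hN

/-- A faithful sharply 5-transitive group of degree 12 is simple. -/
theorem isSimpleGroup_sharp_five [Finite G] [Fintype α] [FaithfulSMul G α]
    [h5 : IsMultiplyPretransitive G α 5] (hα : Fintype.card α = 12)
    (hsharp : ∀ x : Fin 5 ↪ α, stabilizer G x = ⊥) : IsSimpleGroup G := by
  haveI h2 : IsMultiplyPretransitive G α 2 :=
    isMultiplyPretransitive_of_le (n := 5) (by norm_num) (by simp [hα])
  haveI : IsPretransitive G α := isPretransitive_of_is_two_pretransitive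
  obtain ⟨a⟩ : Nonempty α := Fintype.card_pos_iff.mp (by omega)
  haveI : IsMultiplyPretransitive (stabilizer G a) (SubMulAction.ofStabilizer G a) 4 :=
    SubMulAction.ofStabilizer.isMultiplyPretransitive.mp h5
  haveI : IsPretransitive (stabilizer G a) (SubMulAction.ofStabilizer G a) := by
    haveI : IsMultiplyPretransitive (stabilizer G a) (SubMulAction.ofStabilizer G a) 2 :=
      isMultiplyPretransitive_of_le (n := 4) (by norm_num) (by
        show _ ≤ Nat.card ({a}ᶜ : Set α)
        rw [Nat.card_coe_set_eq, Set.ncard_compl, Set.ncard_singleton, Nat.card_eq_fintype_card, hα]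
        norm_num)
    exact isPretransitive_of_is_two_pretransitive
  haveI : FaithfulSMul (stabilizer G a) (SubMulAction.ofStabilizer G a) := ⟨fun {g h} hgh => by
    refine Subtype.ext (eq_of_smul_eq_smul (α := α) fun b => ?_)
    by_cases hb : b = a
    · subst hb; rw [mem_stabilizer_iff.mp g.2, mem_stabilizer_iff.mp h.2]
    · exact congrArg Subtype.val (hgh (⟨b, hb⟩ : SubMulAction.ofStabilizer G a))⟩
  have hcard : Nat.card (stabilizer G a) = 7920 := by
    have h := Subgroup.card_mul_index (stabilizer G a)
    rw [index_stabilizer_of_transitive, card_of_sharp (by omega) hsharp, hα,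
      Nat.card_eq_fintype_card (α := α), hα] at h
    have h95 : Nat.descFactorial 12 5 = 7920 * 12 := by decide +kernel
    rw [h95] at h
    exact Nat.eq_of_mul_eq_mul_right (by norm_num) h
  haveI := isSimpleGroup_7920 (α := SubMulAction.ofStabilizer G a) hcard (by
    show Nat.card ({a}ᶜ : Set α) = 11
    rw [Nat.card_coe_set_eq, Set.ncard_compl, Set.ncard_singleton, Nat.card_eq_fintype_card, hα])
  refine isSimpleGroup_of_stabilizer a fun q n hq h => ?_
  rw [Nat.card_eq_fintype_card, hα] at h
  have h2' : 2 = q := (Nat.prime_dvd_prime_iff_eq Nat.prime_two hq).mp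
    (Nat.prime_two.dvd_of_dvd_pow (h ▸ by norm_num : 2 ∣ q ^ n))
  have h3 : 3 = q := (Nat.prime_dvd_prime_iff_eq Nat.prime_three hq).mp
    (Nat.prime_three.dvd_of_dvd_pow (h ▸ by norm_num : 3 ∣ q ^ n))
  omega

/-- Transitive groups of prime degree with non-normal Sylow `p`-subgroups of prime index in their
normalisers are simple. -/
theorem isSimpleGroup_prime_degree [Finite G] [Fintype α] [FaithfulSMul G α] [IsPretransitive G α]
    {p : ℕ} [hp : Fact p.Prime] (hα : Fintype.card α = p) (P : Sylow p G)
    (hn : 1 < Nat.card (Sylow p G))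
    (ht : (((P : Subgroup G).subgroupOf (Subgroup.normalizer ((P : Subgroup G) : Set G))).index).Prime) :
    IsSimpleGroup G := by
  haveI : Nonempty α := Fintype.card_pos_iff.mp (hα ▸ hp.out.pos)
  obtain ⟨a⟩ := ‹Nonempty α›
  haveI : IsPreprimitive G α := IsPreprimitive.of_prime_card (by
    rw [Nat.card_eq_fintype_card, hα]; exact hp.out)
  have hdvd : p ∣ Nat.card G := by
    have := Subgroup.index_dvd_card (stabilizer G a)
    rwa [index_stabilizer_of_transitive, Nat.card_eq_fintype_card, hα] at this
  have hsq : ¬ p ^ 2 ∣ Nat.card G := by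
    intro h
    classical
    have hdf : Nat.card G ∣ p.factorial := by
      rw [← hα, ← Fintype.card_perm, ← Nat.card_eq_fintype_card]
      exact Subgroup.card_dvd_of_injective (MulAction.toPermHom G α) MulAction.toPerm_injective
    have hq := h.trans hdf
    rw [sq, ← Nat.mul_factorial_pred hp.out.ne_zero, Nat.mul_dvd_mul_iff_left hp.out.pos,
      hp.out.dvd_factorial] at hq
    have := hp.out.pos
    omega
  have hP : Nat.card (P : Subgroup G) = p := by
    rw [P.card_eq_multiplicity]
    have h1 : (Nat.card G).factorization p = 1 := by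
      have hne := (Nat.card_pos (α := G)).ne'
      have := (hp.out.dvd_iff_one_le_factorization hne).mp hdvd
      have h2 : ¬ 2 ≤ (Nat.card G).factorization p := fun h =>
        hsq ((hp.out.pow_dvd_iff_le_factorization hne).mpr h)
      omega
    rw [h1, pow_one]
  refine isSimpleGroup_of_prime_index (α := α) (by rw [Nat.card_eq_fintype_card, hα]) P hP hn ht ?_
  rw [← Subgroup.card_mul_index ((P : Subgroup G).subgroupOf _),
    Nat.card_congr (Subgroup.subgroupOfEquivOfLe Subgroup.le_normalizer).toEquiv, hP]

end CfsgLib.PermSimple
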